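import Cfsg.Prelude.Def_AxialAlgebras

/-!
Basic facts on Majorana axes: eigenvectors, fusion, transport by automorphisms.
-/

set_option autoImplicit false

namespace CfsgLib.Majorana

open Cfsg.Axial

variable {V : Type*} [AddCommGroup V] [Module ℝ V]
variable {mul : V →ₗ[ℝ] V →ₗ[ℝ] V} {B : LinearMap.BilinForm ℝ V}
variable {μ : V ≃ₗ[ℝ] V} {a : V}

theorem mem_eigen {c : ℝ} {v : V} : v ∈ eigen mul a c ↔ mul a v = c • v := by
  simp [eigen, Module.End.mem_eigenspace_iff]

theorem eigenSum_singleton (c : ℝ) : eigenSum mul a {c} = eigen mul a c := by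
  simp [eigenSum]

theorem eigenSum_pair (c d : ℝ) : eigenSum mul a {c, d} = eigen mul a c ⊔ eigen mul a d := by
  rw [eigenSum]; exact iSup_pair

theorem eigenSum_insert (c : ℝ) (S : Set ℝ) :
    eigenSum mul a (insert c S) = eigen mul a c ⊔ eigenSum mul a S := by
  rw [eigenSum]; exact iSup_insert

/-- The data of an axis in explicit form. -/
theorem axis_mul_self (h : IsMajoranaPair mul B μ a) : mul a a = a := h.2.2.1.1.2.1

theorem axis_ne_zero (h : IsMajoranaPair mul B μ a) : a ≠ 0 := h.2.2.1.1.1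

theorem eigen_one (h : IsMajoranaPair mul B μ a) {v : V} (hv : mul a v = v) :
    ∃ t : ℝ, v = t • a := by
  have : v ∈ eigen mul a 1 := by simp [mem_eigen, hv]
  rw [h.2.2.1.2, Submodule.mem_span_singleton] at this
  obtain ⟨t, ht⟩ := this
  exact ⟨t, ht.symm⟩

/-- Decomposition of a vector into the four eigenspaces. -/
theorem decompose (h : IsMajoranaPair mul B μ a) (v : V) :
    ∃ (t : ℝ) (u w q : V), mul a u = 0 ∧ mul a w = (1/4 : ℝ) • w ∧ mul a q = (1/32 : ℝ) • q ∧
      v = t • a + u + w + q := by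
  have hv : v ∈ eigenSum mul a majoranaSpectrum := by rw [h.2.2.1.1.2.2.1]; trivial
  rw [majoranaSpectrum, eigenSum_insert, eigenSum_insert, eigenSum_pair] at hv
  obtain ⟨x, hx, y, hy, rfl⟩ := Submodule.mem_sup.1 hv
  obtain ⟨u, hu, z, hz, rfl⟩ := Submodule.mem_sup.1 hy
  obtain ⟨w, hw, q, hq, rfl⟩ := Submodule.mem_sup.1 hz
  rw [mem_eigen] at hx hu hw hq
  obtain ⟨t, rfl⟩ := eigen_one h (by simpa using hx)
  exact ⟨t, u, w, q, by simpa using hu, hw, hq, by abel⟩

theorem fixes_zero (h : IsMajoranaPair mul B μ a) {u : V} (hu : mul a u = 0) : μ u = u := by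
  apply h.2.2.2.1
  rw [eigenSum_insert, eigenSum_pair]
  exact Submodule.mem_sup_right (Submodule.mem_sup_left (by simp [mem_eigen, hu]))

theorem fixes_quarter (h : IsMajoranaPair mul B μ a) {w : V}
    (hw : mul a w = (1/4 : ℝ) • w) : μ w = w := by
  apply h.2.2.2.1
  rw [eigenSum_insert, eigenSum_pair]
  exact Submodule.mem_sup_right (Submodule.mem_sup_right (by simp [mem_eigen, hw]))

theorem fixes_axis (h : IsMajoranaPair mul B μ a) : μ a = a := by
  apply h.2.2.2.1
  rw [eigenSum_insert, eigenSum_pair]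
  exact Submodule.mem_sup_left (by simp [mem_eigen, axis_mul_self h])

theorem negates (h : IsMajoranaPair mul B μ a) {q : V}
    (hq : mul a q = (1/32 : ℝ) • q) : μ q = -q :=
  h.2.2.2.2 q (mem_eigen.2 hq)

/-- A vector fixed by the involution has no `1/32`-component. -/
theorem decompose_fixed (h : IsMajoranaPair mul B μ a) {v : V} (hv : μ v = v) :
    ∃ (t : ℝ) (u w : V), mul a u = 0 ∧ mul a w = (1/4 : ℝ) • w ∧ v = t • a + u + w := by
  obtain ⟨t, u, w, q, hu, hw, hq, rfl⟩ := decompose h v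
  rw [map_add, map_add, map_add, map_smul, fixes_axis h, fixes_zero h hu, fixes_quarter h hw,
    negates h hq] at hv
  have : q = 0 := by
    have : (2 : ℝ) • q = 0 := by linear_combination (norm := module) -hv
    simpa using this
  exact ⟨t, u, w, hu, hw, by simp [this]⟩

theorem fusion (h : IsMajoranaPair mul B μ a) {c d : ℝ} (hc : c ∈ majoranaSpectrum)
    (hd : d ∈ majoranaSpectrum) {u v : V} (hu : mul a u = c • u) (hv : mul a v = d • v) :
    mul u v ∈ eigenSum mul a (monsterLaw (1/4) (1/32) c d) :=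
  h.2.2.1.1.2.2.2 c hc d hd u (mem_eigen.2 hu) v (mem_eigen.2 hv)

theorem zero_mul_zero (h : IsMajoranaPair mul B μ a) {u v : V} (hu : mul a u = 0)
    (hv : mul a v = 0) : mul a (mul u v) = 0 := by
  have := fusion h (c := 0) (d := 0) (by simp [majoranaSpectrum]) (by simp [majoranaSpectrum])
    (u := u) (v := v) (by simp [hu]) (by simp [hv])
  norm_num [monsterLaw, eigenSum_singleton, mem_eigen] at this
  exact this

theorem zero_mul_quarter (h : IsMajoranaPair mul B μ a) {u w : V} (hu : mul a u = 0)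
    (hw : mul a w = (1/4 : ℝ) • w) : mul a (mul u w) = (1/4 : ℝ) • mul u w := by
  have := fusion h (c := 0) (d := 1/4) (by simp [majoranaSpectrum]) (by simp [majoranaSpectrum])
    (u := u) (v := w) (by simp [hu]) hw
  norm_num [monsterLaw, eigenSum_singleton, mem_eigen] at this ⊢
  exact this

theorem quarter_mul_quarter (h : IsMajoranaPair mul B μ a) {w w' : V}
    (hw : mul a w = (1/4 : ℝ) • w) (hw' : mul a w' = (1/4 : ℝ) • w') :
    ∃ (t : ℝ) (u : V), mul a u = 0 ∧ mul w w' = t • a + u := by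
  have hl : monsterLaw (1/4 : ℝ) (1/32) (1/4) (1/4) = {1, 0} := by norm_num [monsterLaw]
  have := fusion h (c := 1/4) (d := 1/4) (by simp [majoranaSpectrum]) (by simp [majoranaSpectrum])
    hw hw'
  rw [hl, eigenSum_pair] at this
  obtain ⟨x, hx, u, hu, hxu⟩ := Submodule.mem_sup.1 this
  rw [mem_eigen] at hx hu
  obtain ⟨t, rfl⟩ := eigen_one h (by simpa using hx)
  exact ⟨t, u, by simpa using hu, hxu.symm⟩

/-- Uniqueness of decompositions for the eigenvalues `1, 0, 1/4`. -/
theorem decomposition_unique (h : IsMajoranaPair mul B μ a) {s t : ℝ} {u w u' w' : V}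
    (hu : mul a u = 0) (hw : mul a w = (1/4 : ℝ) • w)
    (hu' : mul a u' = 0) (hw' : mul a w' = (1/4 : ℝ) • w')
    (e : s • a + u + w = t • a + u' + w') : s = t ∧ u = u' ∧ w = w' := by
  have e1 := congrArg (mul a) e
  simp only [map_add, map_smul, axis_mul_self h, hu, hu', hw, hw'] at e1
  have e2 := congrArg (mul a) e1
  simp only [map_add, map_smul, map_zero, axis_mul_self h, hw, hw'] at e2
  have hww : w = w' := by
    linear_combination (norm := module) (16/3 : ℝ) • e1 - (16/3 : ℝ) • e2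
  subst hww
  have hst : (s - t) • a = 0 := by
    linear_combination (norm := module) e1
  have : s = t := by
    rcases smul_eq_zero.1 hst with h0 | h0
    · linarith
    · exact absurd h0 (axis_ne_zero h)
  subst this
  exact ⟨rfl, by linear_combination (norm := module) e, rfl⟩

theorem symm_map (hμ : ∀ u v : V, μ (mul u v) = mul (μ u) (μ v)) (u v : V) :
    μ.symm (mul u v) = mul (μ.symm u) (μ.symm v) := by
  apply μ.injective
  simp [hμ]

/-- Transport of an axis by an automorphism. -/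
theorem transport (g : V ≃ₗ[ℝ] V) (hg : ∀ u v : V, g (mul u v) = mul (g u) (g v))
    (hgB : ∀ u v : V, B (g u) (g v) = B u v) (h : IsMajoranaPair mul B μ a) :
    IsMajoranaPair mul B (g * μ * g⁻¹) (g a) := by
  have hinv : ∀ v : V, (g⁻¹ : V ≃ₗ[ℝ] V) v = g.symm v := fun v => rfl
  have hmap : ∀ c : ℝ, eigen mul (g a) c = (eigen mul a c).map (g : V →ₗ[ℝ] V) := by
    intro c
    ext v
    rw [Submodule.mem_map_equiv, mem_eigen, mem_eigen, ← g.injective.eq_iff (a := mul a _)]
    simp [hg]
  have hsum : ∀ S : Set ℝ, eigenSum mul (g a) S = (eigenSum mul a S).map (g : V →ₗ[ℝ] V) := by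
    intro S; simp [eigenSum, Submodule.map_iSup, hmap]
  obtain ⟨hm, hB, ⟨⟨hne, hid, htop, hlaw⟩, hprim⟩, hfix, hneg⟩ := h
  refine ⟨?_, ?_, ⟨⟨?_, ?_, ?_, ?_⟩, ?_⟩, ?_, ?_⟩
  · intro u v; simp [hinv, symm_map hg, hm, hg]
  · intro u v; simp [hinv, hgB, hB]
    rw [← hgB, LinearEquiv.apply_symm_apply, LinearEquiv.apply_symm_apply]
  · simpa using hne
  · rw [← hg, hid]
  · rw [hsum, htop, Submodule.map_top, LinearEquiv.range]
  · intro c hc d hd u hu v hv
    rw [hmap, Submodule.mem_map_equiv] at hu hv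
    rw [hsum, Submodule.mem_map_equiv, symm_map hg]
    exact hlaw c hc d hd _ hu _ hv
  · rw [hmap, hprim, Submodule.map_span, Set.image_singleton]; rfl
  · intro v hv
    rw [hsum, Submodule.mem_map_equiv] at hv
    show g (μ ((g⁻¹ : V ≃ₗ[ℝ] V) v)) = v
    rw [hinv]
    have := hfix _ hv
    simp only [LinearEquiv.coe_coe] at this
    simp [this]
  · intro v hv
    rw [hmap, Submodule.mem_map_equiv] at hv
    show g (μ ((g⁻¹ : V ≃ₗ[ℝ] V) v)) = -v
    rw [hinv]
    have := hneg _ hv
    simp only [LinearEquiv.coe_coe] at this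
    simp [this]

end CfsgLib.Majorana
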