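import Cfsg.Agent.Majorana.Basic

/-!
Dihedral Majorana algebras: the orbit of two axes, the structure equations, and the period
theorem of Sakuma.
-/

set_option autoImplicit false

namespace CfsgLib.Majorana

open Cfsg.Axial

variable {V : Type*} [AddCommGroup V] [Module ℝ V]

/-- A chain of axes with the reflections given by their involutions. -/
structure Orbit (mul : V →ₗ[ℝ] V →ₗ[ℝ] V) (B : LinearMap.BilinForm ℝ V) where
  ax : ℤ → V
  inv : ℤ → V ≃ₗ[ℝ] V
  amb : IsMajoranaAmbient mul B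
  pair : ∀ i, IsMajoranaPair mul B (inv i) (ax i)
  refl : ∀ i j, inv i (ax j) = ax (2 * i - j)
  unit : ∀ i, B (ax i) (ax i) = 1

variable {mul : V →ₗ[ℝ] V →ₗ[ℝ] V} {B : LinearMap.BilinForm ℝ V}

namespace Orbit

variable (O : Orbit mul B)

/-- The inner product of two axes at a distance. -/
def lam (d i : ℤ) : ℝ := B (O.ax i) (O.ax (i + d))

/-- The invariant vector of two axes at a distance. -/
noncomputable def sig (d i : ℤ) : V :=
  mul (O.ax i) (O.ax (i + d)) - (1/32 : ℝ) • (O.ax i + O.ax (i + d))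

theorem comm (O : Orbit mul B) (u v : V) : mul u v = mul v u := O.amb.1 u v

theorem sym (O : Orbit mul B) (u v : V) : B u v = B v u := O.amb.2.1 u v

theorem assoc (O : Orbit mul B) (u v w : V) : B u (mul v w) = B (mul u v) w :=
  O.amb.2.2.2.1 u v w

theorem idem (i : ℤ) : mul (O.ax i) (O.ax i) = O.ax i := axis_mul_self (O.pair i)

theorem orth (i : ℤ) {c : ℝ} (hc : c ≠ 1) {v : V} (hv : mul (O.ax i) v = c • v) :
    B (O.ax i) v = 0 := by
  have h := O.assoc (O.ax i) (O.ax i) v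
  rw [O.idem, hv, map_smul, smul_eq_mul] at h
  have h2 : (c - 1) * B (O.ax i) v = 0 := by linarith
  exact (mul_eq_zero.1 h2).resolve_left (sub_ne_zero.2 hc)

theorem lam_back (d i : ℤ) : O.lam d (i - d) = O.lam d i := by
  have h := (O.pair i).2.1 (O.ax i) (O.ax (i + d))
  rw [O.refl, O.refl] at h
  rw [lam, lam, sub_add_cancel, ← h, O.sym]
  congr 2 <;> ring_nf

theorem lam_two (d i : ℤ) : O.lam d (i + 2) = O.lam d i := by
  have h := (O.pair i).2.1 (O.ax i) (O.ax (i + d))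
  have h' := (O.pair (i + 1)).2.1 (O.inv i (O.ax i)) (O.inv i (O.ax (i + d)))
  rw [h, O.refl, O.refl, O.refl, O.refl] at h'
  rw [lam, lam, ← h']
  congr 2 <;> ring_nf

/-- The quarter eigenvector of a pair of axes. -/
noncomputable def wvec (d i : ℤ) : V :=
  (4 : ℝ) • O.sig d i + (1/8 - 4 * O.lam d i) • O.ax i
    + (1/16 : ℝ) • (O.ax (i + d) + O.ax (i - d))

/-- The zero eigenvector of a pair of axes. -/
noncomputable def uvec (d i : ℤ) : V :=
  (1/2 : ℝ) • (O.ax (i + d) + O.ax (i - d)) - O.lam d i • O.ax i - O.wvec d i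

theorem split (d i : ℤ) : mul (O.ax i) (O.uvec d i) = 0 ∧
    mul (O.ax i) (O.wvec d i) = (1/4 : ℝ) • O.wvec d i ∧ O.sig d (i - d) = O.sig d i := by
  obtain ⟨t, u, w, q, hu, hw, hq, hp⟩ := decompose (O.pair i) (O.ax (i + d))
  have hm : O.ax (i - d) = t • O.ax i + u + w - q := by
    have h := congrArg (O.inv i) hp
    rw [O.refl, map_add, map_add, map_add, map_smul, fixes_axis (O.pair i),
      fixes_zero (O.pair i) hu, fixes_quarter (O.pair i) hw, negates (O.pair i) hq] at h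
    rw [show i - d = 2 * i - (i + d) by ring, h]
    abel
  have ht : O.lam d i = t := by
    rw [lam, hp, map_add, map_add, map_add, map_smul, O.unit,
      O.orth i (c := 0) (by norm_num) (by rw [hu, zero_smul]), O.orth i (by norm_num) hw,
      O.orth i (by norm_num) hq, smul_eq_mul]
    ring
  have hap : mul (O.ax i) (O.ax (i + d)) = t • O.ax i + (1/4 : ℝ) • w + (1/32 : ℝ) • q := by
    rw [hp, map_add, map_add, map_add, map_smul, O.idem, hu, hw, hq, add_zero]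
  have ham : mul (O.ax i) (O.ax (i - d)) = t • O.ax i + (1/4 : ℝ) • w - (1/32 : ℝ) • q := by
    rw [hm, map_sub, map_add, map_add, map_smul, O.idem, hu, hw, hq, add_zero]
  have hW : O.wvec d i = w := by
    rw [wvec, sig, hap, hm, hp, ht]; module
  have hU : O.uvec d i = u := by
    rw [uvec, hW, hm, hp, ht]; module
  refine ⟨by rw [hU, hu], by rw [hW, hw], ?_⟩
  rw [sig, sig, sub_add_cancel, O.comm (O.ax (i - d)), ham, hap, hm, hp]
  module

theorem sig_back (d i : ℤ) : O.sig d (i - d) = O.sig d i := (O.split d i).2.2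

theorem mul_add_ax (d i : ℤ) : mul (O.ax i) (O.ax (i + d))
    = O.sig d i + (1/32 : ℝ) • (O.ax i + O.ax (i + d)) := by
  rw [sig, sub_add_cancel]

theorem mul_sub_ax (d i : ℤ) : mul (O.ax i) (O.ax (i - d))
    = O.sig d i + (1/32 : ℝ) • (O.ax i + O.ax (i - d)) := by
  rw [← O.sig_back d i, sig, sub_add_cancel, O.comm (O.ax (i - d))]
  module

theorem mul_sig (d i : ℤ) : mul (O.ax i) (O.sig d i) = (7/2048 : ℝ) • O.ax (i - d)
    + (3/4 * O.lam d i - 25/1024) • O.ax i + (7/2048 : ℝ) • O.ax (i + d)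
    + (7/32 : ℝ) • O.sig d i := by
  have h := (O.split d i).2.1
  rw [wvec] at h
  simp only [map_add, map_smul, O.mul_add_ax, O.mul_sub_ax, O.idem] at h
  linear_combination (norm := module) (1/4 : ℝ) • h

theorem const_of_step {α : Type*} (f : ℤ → α) (h : ∀ i, f (i - 1) = f i) (i : ℤ) : f i = f 0 := by
  induction i using Int.induction_on with
  | zero => rfl
  | succ n ih => rw [← ih, ← h ((n : ℤ) + 1), add_sub_cancel_right]
  | pred n ih => rw [h, ih]

/-- The basic inner product. -/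
def L : ℝ := O.lam 1 0

/-- The basic invariant vector. -/
noncomputable def S : V := O.sig 1 0

theorem lam_one (i : ℤ) : O.lam 1 i = O.L := const_of_step _ (O.lam_back 1) i

theorem sig_one (i : ℤ) : O.sig 1 i = O.S := const_of_step _ (O.sig_back 1) i

theorem sig_two (i : ℤ) : O.sig 2 (i + 2) = O.sig 2 i := by
  rw [← O.sig_back 2 (i + 2), add_sub_cancel_right]

theorem sig_two' (i : ℤ) : O.sig 2 (i - 1) = O.sig 2 (i + 1) := by
  rw [← O.sig_back 2 (i + 1)]; ring_nf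

theorem lam_two_odd (i : ℤ) : O.lam 2 (i - 1) = O.lam 2 (i + 1) := by
  rw [← O.lam_back 2 (i + 1)]; ring_nf

/-- The list of products at a centre. -/
theorem products (i : ℤ) :
    mul (O.ax i) (O.ax (i + 1)) = O.S + (1/32 : ℝ) • (O.ax i + O.ax (i + 1)) ∧
    mul (O.ax i) (O.ax (i - 1)) = O.S + (1/32 : ℝ) • (O.ax i + O.ax (i - 1)) ∧
    mul (O.ax (i + 1)) (O.ax (i - 1))
      = O.sig 2 (i + 1) + (1/32 : ℝ) • (O.ax (i + 1) + O.ax (i - 1)) ∧
    mul (O.ax i) O.S = (7/2048 : ℝ) • O.ax (i - 1) + (3/4 * O.L - 25/1024) • O.ax i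
      + (7/2048 : ℝ) • O.ax (i + 1) + (7/32 : ℝ) • O.S ∧
    mul (O.ax (i + 1)) O.S = (7/2048 : ℝ) • O.ax i + (3/4 * O.L - 25/1024) • O.ax (i + 1)
      + (7/2048 : ℝ) • O.ax (i + 2) + (7/32 : ℝ) • O.S ∧
    mul (O.ax (i - 1)) O.S = (7/2048 : ℝ) • O.ax (i - 2) + (3/4 * O.L - 25/1024) • O.ax (i - 1)
      + (7/2048 : ℝ) • O.ax i + (7/32 : ℝ) • O.S := by
  have e := O.mul_sig 1
  simp only [O.sig_one, O.lam_one] at e
  refine ⟨by rw [O.mul_add_ax, O.sig_one], by rw [O.mul_sub_ax, O.sig_one], ?_, e i, ?_, ?_⟩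
  · have := O.mul_sub_ax 2 (i + 1)
    rwa [show i + 1 - 2 = i - 1 by ring] at this
  · have := e (i + 1)
    rwa [add_sub_cancel_right, show i + 1 + 1 = i + 2 by ring] at this
  · have := e (i - 1)
    rwa [sub_add_cancel, show i - 1 - 1 = i - 2 by ring] at this

theorem quarter_pair (i : ℤ) (d : ℤ) : B (O.wvec d i) (O.uvec d i) = 0 := by
  obtain ⟨hu, hw, -⟩ := O.split d i
  have h := O.assoc (O.wvec d i) (O.ax i) (O.uvec d i)
  rw [hu, map_zero, O.comm, hw, map_smul, LinearMap.smul_apply, smul_eq_mul] at h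
  linarith

theorem axis_sig_same (d i : ℤ) :
    B (O.ax i) (O.sig d i) = O.lam d i - (1 + O.lam d i) / 32 := by
  rw [sig, map_sub, map_smul, map_add, O.assoc, O.idem, O.unit, smul_eq_mul]
  simp only [lam]; ring

theorem axis_S (i : ℤ) : B (O.ax i) O.S = O.L - (1 + O.L) / 32 := by
  rw [← O.sig_one i, O.axis_sig_same, O.lam_one]

theorem quarter_square (i : ℤ) : mul (O.ax i) (mul (O.wvec 1 i) (O.wvec 1 i))
    = (O.L - O.L ^ 2 - 1/64 + O.lam 2 (i + 1) / 64) • O.ax i := by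
  obtain ⟨hu, hw, -⟩ := O.split 1 i
  obtain ⟨t, u, hu0, he⟩ := quarter_mul_quarter (O.pair i) hw hw
  have ht : B (O.ax i) (mul (O.wvec 1 i) (O.wvec 1 i)) = t := by
    rw [he, map_add, map_smul, O.unit, O.orth i (c := 0) (by norm_num) (by rw [hu0, zero_smul])]
    simp
  have h2 : B (O.ax i) (mul (O.wvec 1 i) (O.wvec 1 i))
      = (1/4) * B (O.wvec 1 i) (O.wvec 1 i) := by
    rw [O.assoc, hw, map_smul, LinearMap.smul_apply, smul_eq_mul]
  have haw : B (O.ax i) (O.wvec 1 i) = 0 := O.orth i (by norm_num) hw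
  have hwu := O.quarter_pair i 1
  have hmp : B (O.wvec 1 i) (O.ax (i - 1)) = B (O.wvec 1 i) (O.ax (i + 1)) := by
    have h := (O.pair i).2.1 (O.wvec 1 i) (O.ax (i + 1))
    rw [O.refl, fixes_quarter (O.pair i) hw] at h
    rw [← h]; congr 2; ring
  rw [uvec, map_sub, map_sub, map_smul, map_smul, map_add, O.sym (O.wvec 1 i) (O.ax i), haw,
    hmp] at hwu
  have hwp : B (O.wvec 1 i) (O.ax (i + 1))
      = 4 * (O.L - (1 + O.L) / 32) + (1/8 - 4 * O.L) * O.L
        + (1/16) * (1 + O.lam 2 (i + 1)) := by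
    have e1 : B O.S (O.ax (i + 1)) = O.L - (1 + O.L) / 32 := by rw [O.sym, O.axis_S]
    have e2 : B (O.ax i) (O.ax (i + 1)) = O.L := O.lam_one i
    have e3 : B (O.ax (i - 1)) (O.ax (i + 1)) = O.lam 2 (i + 1) := by
      rw [← O.lam_two_odd, lam, show i - 1 + 2 = i + 1 by ring]
    rw [wvec]
    simp only [map_add, map_smul, LinearMap.add_apply, LinearMap.smul_apply, smul_eq_mul,
      O.lam_one, O.sig_one, e1, e2, e3, O.unit]
  rw [he, map_add, map_smul, O.idem, hu0, add_zero, ← ht, h2]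
  congr 1
  simp only [smul_eq_mul] at hwu
  linarith

theorem mul_other (i : ℤ) : mul (O.ax i) (O.sig 2 (i + 1))
    = (7/6144 : ℝ) • (O.ax (i + 2) + O.ax (i - 2))
      + (1/6 * O.L - 19/3072) • (O.ax (i + 1) + O.ax (i - 1))
      + (-(32/3) * O.L ^ 2 - O.lam 2 (i + 1) / 24 + 5/3 * O.L - 127/3072) • O.ax i
      + (32/3 * O.L - 19/48) • O.S + (7/96 : ℝ) • O.sig 2 i := by
  obtain ⟨hu, hw, -⟩ := O.split 1 i
  have huu := zero_mul_zero (O.pair i) hu hu
  have hww := O.quarter_square i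
  obtain ⟨hap, ham, hpm, haS, hpS, hmS⟩ := O.products i
  have hpa := (O.comm (O.ax (i + 1)) (O.ax i)).trans hap
  have hma := (O.comm (O.ax (i - 1)) (O.ax i)).trans ham
  have hmp := (O.comm (O.ax (i - 1)) (O.ax (i + 1))).trans hpm
  have hSa := (O.comm O.S (O.ax i)).trans haS
  have hSp := (O.comm O.S (O.ax (i + 1))).trans hpS
  have hSm := (O.comm O.S (O.ax (i - 1))).trans hmS
  have hX : mul (O.ax i) (mul (O.uvec 1 i - O.wvec 1 i) (O.uvec 1 i + O.wvec 1 i))
      = -(O.L - O.L ^ 2 - 1/64 + O.lam 2 (i + 1) / 64) • O.ax i := by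
    simp only [map_sub, map_add, LinearMap.sub_apply, LinearMap.add_apply, huu, hww,
      O.comm (O.wvec 1 i) (O.uvec 1 i)]
    module
  rw [show O.uvec 1 i + O.wvec 1 i
      = (1/2 : ℝ) • (O.ax (i + 1) + O.ax (i - 1)) - O.lam 1 i • O.ax i from sub_add_cancel _ _,
    uvec, wvec] at hX
  simp only [map_add, map_sub, map_smul, LinearMap.add_apply, LinearMap.sub_apply,
    LinearMap.smul_apply, O.lam_one, O.sig_one, hap, ham, hpm, haS, hpS, hmS, hpa, hma, hmp,
    hSa, hSp, hSm, O.idem, O.mul_add_ax 2 i, O.mul_sub_ax 2 i] at hX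
  linear_combination (norm := module) (8/3 : ℝ) • hX

theorem S_sq (i : ℤ) : mul O.S O.S
    = (49/196608 : ℝ) • (O.ax (i + 2) + O.ax (i - 2))
      + (49/768 * O.L - 245/196608) • (O.ax (i + 1) + O.ax (i - 1))
      + (7/6 * O.L ^ 2 + 7/1536 * O.lam 2 (i + 1) - 7/384 * O.L - 7/98304) • O.ax i
      + (-(5/12) * O.L - 13/1536) • O.S + (-(7/1536) : ℝ) • O.sig 2 i
      + (7/2048 : ℝ) • O.sig 2 (i + 1) := by
  obtain ⟨hu, hw, -⟩ := O.split 1 i
  have huu := zero_mul_zero (O.pair i) hu hu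
  have huw := zero_mul_quarter (O.pair i) hu hw
  obtain ⟨hap, ham, hpm, haS, hpS, hmS⟩ := O.products i
  have hpa := (O.comm (O.ax (i + 1)) (O.ax i)).trans hap
  have hma := (O.comm (O.ax (i - 1)) (O.ax i)).trans ham
  have hmp := (O.comm (O.ax (i - 1)) (O.ax (i + 1))).trans hpm
  have hSa := (O.comm O.S (O.ax i)).trans haS
  have hSp := (O.comm O.S (O.ax (i + 1))).trans hpS
  have hSm := (O.comm O.S (O.ax (i - 1))).trans hmS
  have hX : mul (O.uvec 1 i) (O.uvec 1 i) = mul (O.uvec 1 i) (O.uvec 1 i + O.wvec 1 i)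
      - (4 : ℝ) • mul (O.ax i) (mul (O.uvec 1 i) (O.uvec 1 i + O.wvec 1 i)) := by
    rw [map_add (mul (O.uvec 1 i)), map_add, huu, huw]
    module
  rw [show O.uvec 1 i + O.wvec 1 i
      = (1/2 : ℝ) • (O.ax (i + 1) + O.ax (i - 1)) - O.lam 1 i • O.ax i from sub_add_cancel _ _,
    uvec, wvec] at hX
  simp only [map_add, map_sub, map_smul, LinearMap.add_apply, LinearMap.sub_apply,
    LinearMap.smul_apply, O.lam_one, O.sig_one, hap, ham, hpm, haS, hpS, hmS, hpa, hma, hmp,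
    hSa, hSp, hSm, O.idem, O.mul_add_ax 2 i, O.mul_sub_ax 2 i, O.mul_other i] at hX
  linear_combination (norm := module) (1/16 : ℝ) • hX

theorem axis_other (i : ℤ) : B (O.ax i) (O.sig 2 (i + 1))
    = (7/6144) * (2 * O.lam 2 i) + (1/6 * O.L - 19/3072) * (2 * O.L)
      + (-(32/3) * O.L ^ 2 - O.lam 2 (i + 1) / 24 + 5/3 * O.L - 127/3072)
      + (32/3 * O.L - 19/48) * (O.L - (1 + O.L) / 32)
      + (7/96) * (O.lam 2 i - (1 + O.lam 2 i) / 32) := by
  have h := O.assoc (O.ax i) (O.ax i) (O.sig 2 (i + 1))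
  rw [O.idem, O.mul_other] at h
  have e1 : B (O.ax i) (O.ax (i + 1)) = O.L := O.lam_one i
  have e2 : B (O.ax i) (O.ax (i - 1)) = O.L := by
    rw [O.sym, ← O.lam_one (i - 1), lam, sub_add_cancel]
  have e3 : B (O.ax i) (O.ax (i + 2)) = O.lam 2 i := rfl
  have e4 : B (O.ax i) (O.ax (i - 2)) = O.lam 2 i := by
    rw [O.sym, ← O.lam_back 2 i, lam, sub_add_cancel]
  simp only [map_add, map_smul, smul_eq_mul, e1, e2, e3, e4, O.unit, O.axis_S,
    O.axis_sig_same] at h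
  linarith

theorem lam_two_eq (i : ℤ) : O.lam 2 (i + 1) = O.lam 2 i := by
  obtain ⟨hap, -, -, haS, hpS, -⟩ := O.products i
  have e1 : B (O.ax i) (O.ax (i + 1)) = O.L := O.lam_one i
  have e2 : B (O.ax i) (O.ax (i - 1)) = O.L := by
    rw [O.sym, ← O.lam_one (i - 1), lam, sub_add_cancel]
  have e3 : B (O.ax i) (O.ax (i + 2)) = O.lam 2 i := rfl
  have e4 : B (O.ax i) (O.ax (i - 2)) = O.lam 2 i := by
    rw [O.sym, ← O.lam_back 2 i, lam, sub_add_cancel]
  have hSS : B O.S O.S = B (O.ax i) (mul (O.ax (i + 1)) O.S)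
      - (1/32) * (2 * (O.L - (1 + O.L) / 32)) := by
    rw [O.assoc (O.ax i), hap]
    simp only [map_add, map_smul, LinearMap.add_apply, LinearMap.smul_apply, smul_eq_mul,
      O.axis_S]
    ring
  rw [hpS] at hSS
  simp only [map_add, map_smul, smul_eq_mul, e1, e3, O.unit, O.axis_S] at hSS
  have h := O.assoc O.S O.S (O.ax i)
  rw [O.comm O.S (O.ax i), haS, O.S_sq i, O.sym _ (O.ax i)] at h
  simp only [map_add, map_smul, smul_eq_mul, O.sym O.S (O.ax _), e1, e2, e3, e4, O.unit,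
    O.axis_S, O.axis_sig_same, O.axis_other, hSS] at h
  linarith

/-- The second inner product. -/
def M : ℝ := O.lam 2 0

theorem lam_two_const (i : ℤ) : O.lam 2 i = O.M :=
  const_of_step _ (fun j => by
    have := O.lam_two_eq (j - 1)
    rwa [sub_add_cancel, eq_comm] at this) i

/-- The five term relation. -/
theorem rel_one (i : ℤ) : (7 : ℝ) • (O.ax (i - 2) - O.ax (i + 3))
    + (1792 * O.L - 42) • (O.ax (i - 1) - O.ax (i + 2))
    + (32768 * O.L ^ 2 + 128 * O.M - 2304 * O.L + 33) • (O.ax i - O.ax (i + 1))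
    + (-224 : ℝ) • (O.sig 2 i - O.sig 2 (i + 1)) = 0 := by
  have h := (O.S_sq i).symm.trans (O.S_sq (i + 1))
  simp only [show i + 1 + 2 = i + 3 by ring, show i + 1 - 2 = i - 1 by ring,
    show i + 1 + 1 = i + 2 by ring, add_sub_cancel_right, O.sig_two, O.lam_two_const] at h
  linear_combination (norm := module) (196608/7 : ℝ) • h

/-- The linear recurrence of the axes. -/
theorem rel_two (i : ℤ) : (7 : ℝ) • (O.ax (i - 2) - O.ax (i + 4))
    + (1792 * O.L - 35) • (O.ax (i - 1) - O.ax (i + 3))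
    + (32768 * O.L ^ 2 + 128 * O.M - 512 * O.L - 9) • (O.ax i - O.ax (i + 2)) = 0 := by
  have h := O.rel_one i
  have h' := O.rel_one (i + 1)
  simp only [show i + 1 + 3 = i + 4 by ring, show i + 1 + 2 = i + 3 by ring,
    show i + 1 - 2 = i - 1 by ring,
    show i + 1 + 1 = i + 2 by ring, add_sub_cancel_right, O.sig_two] at h'
  linear_combination (norm := module) h + h'

theorem lam_three (i : ℤ) : O.lam 3 i = O.lam 3 0 := by
  refine const_of_step _ (fun j => ?_) i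
  rw [← O.lam_back 3 j, ← O.lam_two 3 (j - 3)]
  congr 1; ring

theorem rev (d i : ℤ) : B (O.ax i) (O.ax (i - d)) = O.lam d i := by
  rw [O.sym, ← O.lam_back d i, lam, sub_add_cancel]

/-- The inner product of an axis with the invariant vector of the other parity. -/
noncomputable def K : ℝ :=
  (7/6144) * (2 * O.M) + (1/6 * O.L - 19/3072) * (2 * O.L)
    + (-(32/3) * O.L ^ 2 - O.M / 24 + 5/3 * O.L - 127/3072)
    + (32/3 * O.L - 19/48) * (O.L - (1 + O.L) / 32)
    + (7/96) * (O.M - (1 + O.M) / 32)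

theorem axis_K (i : ℤ) : B (O.ax i) (O.sig 2 (i + 1)) = O.K := by
  rw [O.axis_other, O.lam_two_const i, O.lam_two_const (i + 1), K]

theorem axis_T (i : ℤ) : B (O.ax i) (O.sig 2 i) = O.M - (1 + O.M) / 32 := by
  rw [O.axis_sig_same, O.lam_two_const]

theorem lam_three_eq : O.lam 3 0 = -(32768/7) * O.L ^ 3 - 1920/7 * O.L * O.M
    + 36864/7 * O.L ^ 2 - 33/7 * O.M - 2169/7 * O.L + 33/7 := by
  have h := congrArg (B (O.ax 0)) (O.rel_one 0)
  have e1 := O.lam_one 0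
  have e2 := O.rev 1 0
  have e3 := O.lam_two_const 0
  have e4 := O.rev 2 0
  have e5 : B (O.ax 0) (O.ax (0 + 3)) = O.lam 3 0 := rfl
  simp only [lam] at e1 e3
  rw [O.lam_one] at e2
  rw [O.lam_two_const] at e4
  simp only [map_add, map_sub, map_smul, map_zero, smul_eq_mul, e1, e2, e3, e4, e5, O.unit,
    O.axis_T, O.axis_K, K] at h
  linarith

theorem lam_four_eq (i : ℤ) : 7 * (O.M - O.lam 4 i)
    + (1792 * O.L - 35) * (O.L - O.lam 3 0)
    + (32768 * O.L ^ 2 + 128 * O.M - 512 * O.L - 9) * (1 - O.M) = 0 := by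
  have h := congrArg (B (O.ax i)) (O.rel_two i)
  have e1 := O.rev 1 i
  have e2 := O.rev 2 i
  have e3 := O.lam_two_const i
  have e4 : B (O.ax i) (O.ax (i + 3)) = O.lam 3 0 := O.lam_three i
  rw [O.lam_one] at e1
  rw [O.lam_two_const] at e2
  simp only [lam] at e3
  simp only [map_add, map_sub, map_smul, map_zero, smul_eq_mul, e1, e2, e3, e4, O.unit] at h
  exact h

theorem lam_five_eq (i : ℤ) : 7 * (O.L - O.lam 5 i)
    + (1792 * O.L - 35) * (1 - O.lam 4 i)
    + (32768 * O.L ^ 2 + 128 * O.M - 512 * O.L - 9) * (O.L - O.lam 3 0) = 0 := by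
  have h := congrArg (B (O.ax i)) (O.rel_two (i + 1))
  simp only [show i + 1 - 2 = i - 1 by ring, add_sub_cancel_right,
    show i + 1 + 4 = i + 5 by ring, show i + 1 + 3 = i + 4 by ring,
    show i + 1 + 2 = i + 3 by ring] at h
  have e1 := O.rev 1 i
  have e2 : B (O.ax i) (O.ax (i + 1)) = O.L := O.lam_one i
  have e4 : B (O.ax i) (O.ax (i + 3)) = O.lam 3 0 := O.lam_three i
  rw [O.lam_one] at e1
  simp only [map_add, map_sub, map_smul, map_zero, smul_eq_mul, e1, e2, e4, O.unit] at h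
  exact h

theorem lam_six_eq (i : ℤ) : 7 * (1 - O.lam 6 i)
    + (1792 * O.L - 35) * (O.L - O.lam 5 i)
    + (32768 * O.L ^ 2 + 128 * O.M - 512 * O.L - 9) * (O.M - O.lam 4 i) = 0 := by
  have h := congrArg (B (O.ax i)) (O.rel_two (i + 2))
  simp only [add_sub_cancel_right,
    show i + 2 + 4 = i + 6 by ring, show i + 2 + 3 = i + 5 by ring,
    show i + 2 + 2 = i + 4 by ring, show i + 2 - 1 = i + 1 by ring] at h
  have e2 : B (O.ax i) (O.ax (i + 1)) = O.L := O.lam_one i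
  have e3 : B (O.ax i) (O.ax (i + 2)) = O.M := O.lam_two_const i
  simp only [map_add, map_sub, map_smul, map_zero, smul_eq_mul, e2, e3, O.unit] at h
  exact h

/-- The first pairing equation. -/
theorem eq_G : 7 * ((O.M - (1 + O.M) / 32) + (O.M + O.lam 4 (-2)) / 32)
    - 7 * (O.K + (O.lam 3 0 + O.L) / 32)
    + (1792 * O.L - 42) * ((O.L - (1 + O.L) / 32) + (O.M + O.lam 3 0) / 32 - O.M)
    + (32768 * O.L ^ 2 + 128 * O.M - 2304 * O.L + 33)
      * (O.M - ((O.L - (1 + O.L) / 32) + (O.M + O.L) / 32))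
    - 224 * (((7/2048) * (O.lam 4 (-2) + 1) + (3/4 * O.M - 25/1024) * O.M
        + (7/32) * (O.M - (1 + O.M) / 32))
      - ((7/6144) * (1 + O.lam 4 (-2)) + (1/6 * O.L - 19/3072) * (O.L + O.lam 3 0)
        + (-(32/3) * O.L ^ 2 - O.M / 24 + 5/3 * O.L - 127/3072) * O.M
        + (32/3 * O.L - 19/48) * (O.L - (1 + O.L) / 32)
        + (7/96) * (O.M - (1 + O.M) / 32))) = 0 := by
  have h := congrArg (fun u => B (O.ax 2) (mul (O.ax 0) u)) (O.rel_one 0)
  obtain ⟨hap, ham, -⟩ := O.products 0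
  have har : mul (O.ax 0) (O.ax (0 - 2)) = _ := O.mul_sub_ax 2 0
  have haq : mul (O.ax 0) (O.ax (0 + 2)) = _ := O.mul_add_ax 2 0
  have haT : mul (O.ax 0) (O.sig 2 0) = _ := O.mul_sig 2 0
  have haT' := O.mul_other 0
  have hab : B (O.ax 2) (mul (O.ax 0) (O.ax (0 + 3)))
      = O.K + (O.lam 3 0 + O.L) / 32 := by
    have e : mul (O.ax 2) (O.ax 0) = O.sig 2 0 + (1/32 : ℝ) • (O.ax 2 + O.ax 0) := by
      have := O.mul_sub_ax 2 2
      rwa [sub_self, show O.sig 2 (2 : ℤ) = O.sig 2 0 by simpa using O.sig_two 0] at this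
    rw [O.assoc, e]
    have f1 : B (O.ax (0 + 3)) (O.sig 2 0) = O.K := by
      rw [← O.axis_K 3, show (0 : ℤ) + 3 = 3 from rfl,
        show O.sig 2 ((3 : ℤ) + 1) = O.sig 2 0 by
          rw [show (3 : ℤ) + 1 = 0 + 2 + 2 by ring, O.sig_two, O.sig_two]]
    have f2 : B (O.ax 2) (O.ax (0 + 3)) = O.L := O.lam_one 2
    have f3 : B (O.ax 0) (O.ax (0 + 3)) = O.lam 3 0 := rfl
    simp only [map_add, map_smul, LinearMap.add_apply, LinearMap.smul_apply, smul_eq_mul,
      O.sym (O.sig 2 0), f1, f2, f3]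
    ring
  have f0 : B (O.ax 2) (O.ax 0) = O.M := by
    rw [O.sym]; exact O.lam_two_const 0
  have f1 : B (O.ax 2) (O.ax (0 + 1)) = O.L := by
    rw [O.sym]; exact O.lam_one 1
  have f2 : B (O.ax 2) (O.ax (0 - 1)) = O.lam 3 0 := by
    rw [O.sym, ← O.lam_three (-1)]; rfl
  have f3 : B (O.ax 2) (O.ax (0 - 2)) = O.lam 4 (-2) := by
    rw [O.sym]; rfl
  have f4 : B (O.ax 2) (O.sig 2 0) = O.M - (1 + O.M) / 32 := by
    rw [← O.axis_T 2, show O.sig 2 (2 : ℤ) = O.sig 2 0 by simpa using O.sig_two 0]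
  have f5 : B (O.ax 2) (O.ax (0 + 2)) = 1 := O.unit 2
  simp only [map_add, map_sub, map_smul, map_zero] at h
  simp only [hap, ham, har, haq, haT, haT', O.idem, map_add, map_sub, map_smul,
    smul_eq_mul, hab, O.axis_S, f0, f1, f2, f3, f4, f5, O.lam_two_const] at h
  linarith

/-- The second pairing equation. -/
theorem eq_H : 7 * ((O.K + (O.lam 3 0 + O.lam 5 (-2)) / 32) - O.lam 3 0)
    + (1792 * O.L - 42) * ((O.L - (1 + O.L) / 32) + (O.lam 3 0 + O.lam 4 (-1)) / 32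
      - (O.K + (O.lam 3 0 + O.L) / 32))
    + (32768 * O.L ^ 2 + 128 * O.M - 2304 * O.L + 33)
      * (O.lam 3 0 - ((O.L - (1 + O.L) / 32) + (O.lam 3 0 + O.M) / 32))
    - 224 * (((7/2048) * (O.lam 5 (-2) + O.L) + (3/4 * O.M - 25/1024) * O.lam 3 0
        + (7/32) * O.K)
      - ((7/6144) * (O.L + O.lam 5 (-2)) + (1/6 * O.L - 19/3072) * (O.M + O.lam 4 (-1))
        + (-(32/3) * O.L ^ 2 - O.M / 24 + 5/3 * O.L - 127/3072) * O.lam 3 0
        + (32/3 * O.L - 19/48) * (O.L - (1 + O.L) / 32)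
        + (7/96) * O.K)) = 0 := by
  have h := congrArg (fun u => B (O.ax 3) (mul (O.ax 0) u)) (O.rel_one 0)
  obtain ⟨hap, ham, -⟩ := O.products 0
  have har : mul (O.ax 0) (O.ax (0 - 2)) = _ := O.mul_sub_ax 2 0
  have haq : mul (O.ax 0) (O.ax (0 + 2)) = _ := O.mul_add_ax 2 0
  have haT : mul (O.ax 0) (O.sig 2 0) = _ := O.mul_sig 2 0
  have haT' := O.mul_other 0
  have hab : B (O.ax 3) (mul (O.ax 0) (O.ax (0 + 3))) = O.lam 3 0 := by
    rw [O.comm, O.assoc, show (0 : ℤ) + 3 = 3 from rfl, O.idem, O.sym]; rfl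
  have f0 : B (O.ax 3) (O.ax 0) = O.lam 3 0 := by rw [O.sym]; rfl
  have f1 : B (O.ax 3) (O.ax (0 + 1)) = O.M := by
    rw [O.sym]; exact O.lam_two_const 1
  have f2 : B (O.ax 3) (O.ax (0 - 1)) = O.lam 4 (-1) := by rw [O.sym]; rfl
  have f3 : B (O.ax 3) (O.ax (0 - 2)) = O.lam 5 (-2) := by rw [O.sym]; rfl
  have f4 : B (O.ax 3) (O.sig 2 0) = O.K := by
    rw [← O.axis_K 3, show O.sig 2 ((3 : ℤ) + 1) = O.sig 2 0 by
      rw [show (3 : ℤ) + 1 = 0 + 2 + 2 by ring, O.sig_two, O.sig_two]]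
  have f5 : B (O.ax 3) (O.ax (0 + 2)) = O.L := by
    rw [O.sym]; exact O.lam_one 2
  simp only [map_add, map_sub, map_smul, map_zero] at h
  simp only [hap, ham, har, haq, haT, haT', O.idem, map_add, map_sub, map_smul,
    smul_eq_mul, hab, O.axis_S, f0, f1, f2, f3, f4, f5, O.lam_two_const] at h
  linarith

/-- The two polynomial equations. -/
theorem equations :
    -786432 * O.L ^ 4 - 15360 * O.L ^ 2 * O.M + 872448 * O.L ^ 3 - 48 * O.M ^ 2
      - 3336 * O.L * O.M - 69120 * O.L ^ 2 + 501/8 * O.M + 1800 * O.L - 117/8 = 0 ∧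
    402653184/7 * O.L ^ 5 + 19660800/7 * O.L ^ 3 * O.M - 453771264/7 * O.L ^ 4
      + 70656/7 * O.L * O.M ^ 2 - 1195008/7 * O.L ^ 2 * O.M + 33103872/7 * O.L ^ 3
      + 2088/7 * O.M ^ 2 + 124392/7 * O.L * O.M - 92160 * O.L ^ 2 - 8703/28 * O.M
      - 216 * O.L + 351/28 = 0 := by
  have h3 := O.lam_three_eq
  have h4 := O.lam_four_eq (-2)
  have h4' := O.lam_four_eq (-1)
  have h4'' := O.lam_four_eq (-2)
  have h5 := O.lam_five_eq (-2)
  have e4 : O.lam 4 (-2) = (7 * O.M + (1792 * O.L - 35) * (O.L - O.lam 3 0)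
      + (32768 * O.L ^ 2 + 128 * O.M - 512 * O.L - 9) * (1 - O.M)) / 7 := by linarith
  have e4' : O.lam 4 (-1) = O.lam 4 (-2) := by linarith
  have e5 : O.lam 5 (-2) = (7 * O.L + (1792 * O.L - 35) * (1 - O.lam 4 (-2))
      + (32768 * O.L ^ 2 + 128 * O.M - 512 * O.L - 9) * (O.L - O.lam 3 0)) / 7 := by linarith
  refine ⟨?_, ?_⟩
  · have h := O.eq_G
    simp only [e4, h3, K] at h
    linear_combination h
  · have h := O.eq_H
    simp only [e5, e4', e4, h3, K] at h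
    linear_combination h

theorem eq_of_lam (n : ℤ) (h : O.lam n 0 = 1) : O.ax n = O.ax 0 := by
  by_contra hne
  have hpos := O.amb.2.2.1 (O.ax n - O.ax 0) (sub_ne_zero.2 hne)
  have e : B (O.ax n) (O.ax 0) = 1 := by rw [O.sym, ← h, lam, zero_add]
  simp only [map_sub, LinearMap.sub_apply, O.unit, e, O.sym (O.ax 0) (O.ax n)] at hpos
  linarith

set_option maxHeartbeats 1000000 in
/-- **Sakuma's theorem**: the chain of axes closes after at most six steps. -/
theorem period_le_six : ∃ n : ℕ, 1 ≤ n ∧ n ≤ 6 ∧ O.ax n = O.ax 0 := by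
  obtain ⟨hG, hH⟩ := O.equations
  have hR : (3939748954023709900800 : ℝ) * ((O.L - 1) * (O.L - 1/8) * O.L * (O.L - 13/256)
      * (O.L - 1/64) ^ 2 * (O.L - 1/32) * (O.L - 3/128) * (O.L - 5/256)) = 0 := by
    linear_combination
      (((-26325/7 : ℝ) + (-3430080/7 : ℝ) * O.L + (46448640 : ℝ) * O.L ^ 2 + (141557760/7 : ℝ) * O.L ^ 3) ^ 2 + ((-48) * ((-26325/7 : ℝ) + (-3430080/7 : ℝ) * O.L + (46448640 : ℝ) * O.L ^ 2 + (141557760/7 : ℝ) * O.L ^ 3) * O.M + 48 * ((26325/7 : ℝ) + (-2652480/7 : ℝ) * O.L + (48107520/7 : ℝ) * O.L ^ 2 + (1473085440/7 : ℝ) * O.L ^ 3 + (-38220595200/7 : ℝ) * O.L ^ 4 + (36238786560/7 : ℝ) * O.L ^ 5) + ((501/8 : ℝ) + (-3336 : ℝ) * O.L + (-15360 : ℝ) * O.L ^ 2) * ((-26325/7 : ℝ) + (-3430080/7 : ℝ) * O.L + (46448640 : ℝ) * O.L ^ 2 + (141557760/7 : ℝ) * O.L ^ 3)) * ((2088/7 : ℝ) + (70656/7 : ℝ) * O.L)) * hG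
      + (48 * ((-48) * ((-26325/7 : ℝ) + (-3430080/7 : ℝ) * O.L + (46448640 : ℝ) * O.L ^ 2 + (141557760/7 : ℝ) * O.L ^ 3) * O.M + 48 * ((26325/7 : ℝ) + (-2652480/7 : ℝ) * O.L + (48107520/7 : ℝ) * O.L ^ 2 + (1473085440/7 : ℝ) * O.L ^ 3 + (-38220595200/7 : ℝ) * O.L ^ 4 + (36238786560/7 : ℝ) * O.L ^ 5) + ((501/8 : ℝ) + (-3336 : ℝ) * O.L + (-15360 : ℝ) * O.L ^ 2) * ((-26325/7 : ℝ) + (-3430080/7 : ℝ) * O.L + (46448640 : ℝ) * O.L ^ 2 + (141557760/7 : ℝ) * O.L ^ 3))) * hH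
  have hlin := congrArg (fun x : ℝ => x) (show -48 * (402653184/7 * O.L ^ 5
      + 19660800/7 * O.L ^ 3 * O.M - 453771264/7 * O.L ^ 4
      + 70656/7 * O.L * O.M ^ 2 - 1195008/7 * O.L ^ 2 * O.M + 33103872/7 * O.L ^ 3
      + 2088/7 * O.M ^ 2 + 124392/7 * O.L * O.M - 92160 * O.L ^ 2 - 8703/28 * O.M
      - 216 * O.L + 351/28) - ((2088/7 : ℝ) + (70656/7 : ℝ) * O.L) *
      (-786432 * O.L ^ 4 - 15360 * O.L ^ 2 * O.M + 872448 * O.L ^ 3 - 48 * O.M ^ 2
      - 3336 * O.L * O.M - 69120 * O.L ^ 2 + 501/8 * O.M + 1800 * O.L - 117/8) = 0 by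
    rw [hG, hH]; ring)
  have h3 := O.lam_three_eq
  have h4 := O.lam_four_eq 0
  have h5 := O.lam_five_eq 0
  have h6 := O.lam_six_eq 0
  simp only [mul_eq_zero, pow_eq_zero_iff, ne_eq, OfNat.ofNat_ne_zero, not_false_eq_true,
    sub_eq_zero, false_or] at hR
  rcases hR with (((((((e | e) | e) | e) | e) | e) | e) | e)
  · exact ⟨1, le_rfl, by norm_num, O.eq_of_lam _ e⟩
  all_goals rw [e] at hlin h3 h4 h5 h6
  · exact ⟨2, by norm_num, by norm_num, O.eq_of_lam _ (show O.M = 1 by linarith)⟩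
  · exact ⟨2, by norm_num, by norm_num, O.eq_of_lam _ (show O.M = 1 by linarith)⟩
  · have hM : O.M = 13/256 := by linarith
    rw [hM] at h3
    exact ⟨3, by norm_num, by norm_num, O.eq_of_lam _ (by norm_num at h3; exact_mod_cast h3)⟩
  · rw [e] at hG
    have hM : (O.M - 1/64) * (O.M - 1/8) = 0 := by linarith
    rcases mul_eq_zero.1 hM with hM | hM
    · rw [sub_eq_zero] at hM
      rw [hM] at h3
      exact ⟨3, by norm_num, by norm_num, O.eq_of_lam _ (by norm_num at h3; exact_mod_cast h3)⟩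
    · rw [sub_eq_zero] at hM
      rw [hM] at h3 h4
      rw [h3] at h4
      exact ⟨4, by norm_num, by norm_num, O.eq_of_lam _ (by norm_num at h4 ⊢; linarith)⟩
  · have hM : O.M = 0 := by linarith
    rw [hM] at h3 h4
    rw [h3] at h4
    exact ⟨4, by norm_num, by norm_num, O.eq_of_lam _ (by norm_num at h4 ⊢; linarith)⟩
  · have hM : O.M = 3/128 := by linarith
    rw [hM] at h3 h4 h5
    rw [h3] at h4 h5
    have e4 : O.lam 4 0 = 3/128 := by norm_num at h4; linarith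
    rw [e4] at h5
    exact ⟨5, by norm_num, by norm_num, O.eq_of_lam _ (by norm_num at h5 ⊢; linarith)⟩
  · have hM : O.M = 13/256 := by linarith
    rw [hM] at h3 h4 h5 h6
    rw [h3] at h4 h5
    have e4 : O.lam 4 0 = 13/256 := by norm_num at h4; linarith
    rw [e4] at h5 h6
    have e5 : O.lam 5 0 = 5/256 := by norm_num at h5; linarith
    rw [e5] at h6
    exact ⟨6, by norm_num, by norm_num, O.eq_of_lam _ (by norm_num at h6 ⊢; linarith)⟩

end Orbit

end CfsgLib.Majorana
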